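import Cfsg.Agent.H865.Meet.RuData
import Cfsg.Agent.H865.Meet.CoThree
import Cfsg.Agent.S1627

/-!
# Trivial intersections of Sylow 2-subgroups: `Ru`

`z` a 2-central involution, `C(z) ∩ C(w z w)` has order 60.
-/

set_option autoImplicit false
set_option maxRecDepth 100000

namespace Cfsg.Agent.H865.Meet.Ru

open Subgroup Cfsg Cfsg.Agent.H68.MeetB Cfsg.Agent.SporadicB Cfsg.Agent.RuD.Letters
open Cfsg.Agent.SporRec.TCUpperCert Cfsg.Agent.KFacts.Ru Cfsg.Agent.KFacts.Ru.CentEng Cfsg.Agent.H865.Meet.RuData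

theorem card_H : Nat.card RuOrder.H = 145926144000 := by
  rw [← Nat.card_congr RuLat.Main.equiv.toEquiv, Cfsg.Agent.S1627.result.2.1]

/-- the value of a word -/
noncomputable abbrev V (w : List ℕ) : RuOrder.H := wprod ml w

theorem V_eq {u v : List ℕ} (h : chkEq u v = true) : V u = V v := eq_of_chkEq h

theorem V_append (u v : List ℕ) : V (u ++ v) = V u * V v := wprod_append ml u v

theorem V_nil : V [] = 1 := wprod_nil ml

theorem V_ne {u v : List ℕ} {p : ℕ} (hp : p < 4060) (h : Nat.beq (evalK u p) (evalK v p) = false) : V u ≠ V v := by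
  intro h1
  have h2 := evalK_eq u ⟨p, hp⟩
  have h3 := evalK_eq v ⟨p, hp⟩
  rw [show wprod ml u = wprod ml v from h1, h3] at h2
  simp only at h2
  rw [h2, Nat.beq_refl] at h
  exact absurd h (by decide)

/-- `H ∩ H ^ x` -/
noncomputable def D : Subgroup RuOrder.H := centralizer ({V wz} : Set RuOrder.H) ⊓
  (centralizer ({V wz} : Set RuOrder.H)).map (MulAut.conj (V [2])).toMonoidHom

theorem k_22 : chkEq ([2] ++ [2]) [] = true := by decide +kernel

theorem inv_2 : (V [2])⁻¹ = V [2] := by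
  apply inv_eq_of_mul_eq_one_left
  rw [← V_append, V_eq k_22, V_nil]

theorem V_wy : V wy = V [2] * V wz * (V [2])⁻¹ := by
  rw [inv_2, ← V_append, ← V_append]
  rfl

theorem mem_D {x : RuOrder.H} : x ∈ D ↔ x * V wz = V wz * x ∧ x * V wy = V wy * x := by
  rw [D, mem_inf, mem_centralizer_singleton_iff, V_wy]
  refine and_congr_right fun _ => ?_
  constructor
  · rintro ⟨y, hy, rfl⟩
    have hy' := mem_centralizer_singleton_iff.1 hy
    change V [2] * y * (V [2])⁻¹ * (V [2] * V wz * (V [2])⁻¹) = V [2] * V wz * (V [2])⁻¹ * (V [2] * y * (V [2])⁻¹)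
    calc V [2] * y * (V [2])⁻¹ * (V [2] * V wz * (V [2])⁻¹) = V [2] * (y * V wz) * (V [2])⁻¹ := by group
      _ = V [2] * (V wz * y) * (V [2])⁻¹ := by rw [hy']
      _ = _ := by group
  · intro h
    refine ⟨(V [2])⁻¹ * x * V [2], mem_centralizer_singleton_iff.2 ?_, ?_⟩
    · calc (V [2])⁻¹ * x * V [2] * V wz = (V [2])⁻¹ * (x * (V [2] * V wz * (V [2])⁻¹)) * V [2] := by group
        _ = (V [2])⁻¹ * ((V [2] * V wz * (V [2])⁻¹) * x) * V [2] := by rw [h]
        _ = _ := by group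
    · change V [2] * ((V [2])⁻¹ * x * V [2]) * (V [2])⁻¹ = x
      group

theorem comm_append {x : RuOrder.H} {v w : List ℕ} (hv : x * V v = V v * x) (hw : x * V w = V w * x) :
    x * V (v ++ w) = V (v ++ w) * x := by
  rw [V_append, ← mul_assoc, hv, mul_assoc, hw, ← mul_assoc]

theorem D_le : D ≤ Cen ws := by
  intro x hx w hw
  obtain ⟨h1, h2⟩ := mem_D.1 hx
  simp only [ws, List.mem_cons, List.not_mem_nil, or_false] at hw
  rcases hw with rfl | rfl | rfl | rfl | rfl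
  · exact h1
  · exact h2
  · exact comm_append (comm_append h1 h2) h1
  · exact comm_append (comm_append h2 h1) h2
  · exact comm_append (comm_append (comm_append (comm_append h1 h2) h1) h2) h1

theorem card_D_le : Nat.card D ≤ 60 := by
  have := Cfsg.Agent.CpAutRuFive.finite_H
  exact (Nat.card_le_card_of_injective _ (inclusion_injective D_le)).trans (card_le run60)

/-! ### elements of `D` -/

theorem k_0z : chkEq ([0] ++ wz) (wz ++ [0]) = true := by decide +kernel
theorem k_4z : chkEq ([4] ++ wz) (wz ++ [4]) = true := by decide +kernel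
theorem k_5z : chkEq ([5] ++ wz) (wz ++ [5]) = true := by decide +kernel
theorem k_0y : chkEq ([0] ++ wy) (wy ++ [0]) = true := by decide +kernel
theorem k_4y : chkEq ([4] ++ wy) (wy ++ [4]) = true := by decide +kernel
theorem k_5y : chkEq ([5] ++ wy) (wy ++ [5]) = true := by decide +kernel
theorem k_444 : chkEq ([4] ++ ([4] ++ [4])) [] = true := by decide +kernel
theorem k_five : chkEq ([0, 4, 5] ++ ([0, 4, 5] ++ ([0, 4, 5] ++ ([0, 4, 5] ++ [0, 4, 5])))) [] = true := by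
  decide +kernel
theorem k_00 : chkEq ([0] ++ [0]) [] = true := by decide +kernel
theorem k_bb : chkEq ([4, 0, 4, 4] ++ [4, 0, 4, 4]) [] = true := by decide +kernel
theorem k_ab : chkEq ([0] ++ [4, 0, 4, 4]) ([4, 0, 4, 4] ++ [0]) = true := by decide +kernel
theorem n_4 : ∃ p < 4060, Nat.beq (evalK [4] p) (evalK [] p) = false := ⟨1, by norm_num, by decide +kernel⟩
theorem n_five : ∃ p < 4060, Nat.beq (evalK [0, 4, 5] p) (evalK [] p) = false := ⟨1, by norm_num, by decide +kernel⟩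

/-- the involutions -/
def el3 (i : ℕ) : List ℕ := if i = 0 then [0] else if i = 1 then [4, 0, 4, 4] else [0, 4, 0, 4, 4]

theorem n_1 : ∀ i : Fin 3, (Nat.beq (evalK (el3 i) 1) (evalK [] 1) && Nat.beq (evalK (el3 i) 2) (evalK [] 2)) = false := by
  decide +kernel
theorem n_2 : ∀ i j : Fin 3, i ≠ j → (Nat.beq (evalK (el3 i) 1) (evalK (el3 j) 1) &&
  Nat.beq (evalK (el3 i) 2) (evalK (el3 j) 2)) = false := by decide +kernel
theorem n_3 : ∀ i j : Fin 3, (Nat.beq (evalK ([5] ++ el3 i) 1) (evalK (el3 j ++ [5]) 1) &&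
  Nat.beq (evalK ([5] ++ el3 i) 2) (evalK (el3 j ++ [5]) 2)) = false := by decide +kernel

theorem ne_of_and {u v : List ℕ} (h : (Nat.beq (evalK u 1) (evalK v 1) && Nat.beq (evalK u 2) (evalK v 2)) = false) :
    V u ≠ V v := by
  rw [Bool.and_eq_false_iff] at h
  rcases h with h | h
  · exact V_ne (by norm_num) h
  · exact V_ne (by norm_num) h

theorem comm_of {l m : List ℕ} (h : chkEq (l ++ m) (m ++ l) = true) : V l * V m = V m * V l := by
  rw [← V_append, ← V_append]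
  exact V_eq h

theorem m_0 : V [0] ∈ D := mem_D.2 ⟨comm_of k_0z, comm_of k_0y⟩
theorem m_4 : V [4] ∈ D := mem_D.2 ⟨comm_of k_4z, comm_of k_4y⟩
theorem m_5 : V [5] ∈ D := mem_D.2 ⟨comm_of k_5z, comm_of k_5y⟩

theorem V_b : V [4, 0, 4, 4] = V [4] * (V [0] * (V [4] * V [4])) := by
  rw [← V_append, ← V_append, ← V_append]
  rfl

theorem m_b : V [4, 0, 4, 4] ∈ D := by
  rw [V_b]
  exact mul_mem m_4 (mul_mem m_0 (mul_mem m_4 m_4))

theorem m_f : V [0, 4, 5] ∈ D := by
  have h : V [0, 4, 5] = V [0] * (V [4] * V [5]) := by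
    rw [← V_append, ← V_append]
    rfl
  rw [h]
  exact mul_mem m_0 (mul_mem m_4 m_5)

theorem three_dvd : 3 ∣ Nat.card D := by
  have hp : Fact (Nat.Prime 3) := ⟨by norm_num⟩
  have h : orderOf (V [4]) = 3 := by
    apply orderOf_eq_prime
    · have h1 := V_eq k_444
      rw [V_append, V_append, V_nil] at h1
      rw [← h1, pow_succ', pow_succ', pow_one]
    · obtain ⟨p, hp, h1⟩ := n_4
      exact V_ne hp h1
  rw [← h, ← Subgroup.orderOf_mk _ m_4]
  exact orderOf_dvd_natCard _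

theorem five_dvd : 5 ∣ Nat.card D := by
  have hp : Fact (Nat.Prime 5) := ⟨by norm_num⟩
  have h : orderOf (V [0, 4, 5]) = 5 := by
    apply orderOf_eq_prime
    · have h1 := V_eq k_five
      rw [V_append, V_append, V_append, V_append, V_nil] at h1
      rw [← h1, pow_succ', pow_succ', pow_succ', pow_succ', pow_one]
    · obtain ⟨p, hp, h1⟩ := n_five
      exact V_ne hp h1
  rw [← h, ← Subgroup.orderOf_mk _ m_f]
  exact orderOf_dvd_natCard _

theorem ha : (⟨V [0], m_0⟩ : D) * ⟨V [0], m_0⟩ = 1 :=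
  Subtype.ext (by
    change V [0] * V [0] = 1
    rw [← V_append, V_eq k_00, V_nil])

theorem hb : (⟨V [4, 0, 4, 4], m_b⟩ : D) * ⟨V [4, 0, 4, 4], m_b⟩ = 1 :=
  Subtype.ext (by
    change V [4, 0, 4, 4] * V [4, 0, 4, 4] = 1
    rw [← V_append, V_eq k_bb, V_nil])

theorem hab : (⟨V [0], m_0⟩ : D) * ⟨V [4, 0, 4, 4], m_b⟩ = ⟨V [4, 0, 4, 4], m_b⟩ * ⟨V [0], m_0⟩ :=
  Subtype.ext (comm_of k_ab)

theorem ha1 : (⟨V [0], m_0⟩ : D) ≠ 1 := fun h => ne_of_and (n_1 0) (congrArg Subtype.val h)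

theorem hb1 : (⟨V [4, 0, 4, 4], m_b⟩ : D) ≠ 1 := fun h => ne_of_and (n_1 1) (congrArg Subtype.val h)

theorem hne : (⟨V [0], m_0⟩ : D) ≠ ⟨V [4, 0, 4, 4], m_b⟩ := fun h =>
  ne_of_and (n_2 0 1 (by decide)) (congrArg Subtype.val h)

theorem card_D : Nat.card D = 60 := by
  have := Cfsg.Agent.CpAutRuFive.finite_H
  have h3 := three_dvd
  have h5 := five_dvd
  have h4 := card_subgroup_dvd_card (CoThree.four (⟨V [0], m_0⟩ : D) ⟨V [4, 0, 4, 4], m_b⟩ ha hb hab)
  rw [CoThree.card_four ha hb hab ha1 hb1 hne] at h4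
  have h6 : 3 * 5 ∣ Nat.card D := Nat.Coprime.mul_dvd_of_dvd_of_dvd (by norm_num) h3 h5
  have h7 : 4 * (3 * 5) ∣ Nat.card D := Nat.Coprime.mul_dvd_of_dvd_of_dvd (by norm_num) h4 h6
  have h8 := Nat.le_of_dvd Nat.card_pos h7
  have h9 := card_D_le
  omega

theorem model : MeetIn 2 RuOrder.H := by
  have := Cfsg.Agent.CpAutRuFive.finite_H
  refine Cfsg.Agent.H935.Meet.of_inter (H := centralizer ({V wz} : Set RuOrder.H)) ?_ (V [2]) ?_
  · obtain ⟨C, hz, -⟩ := Cfsg.Agent.CpAutRuFive.exists_C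
    have h1 := card_mul_index (centralizer ({V wz} : Set RuOrder.H))
    have h2 : Nat.card (centralizer ({V wz} : Set RuOrder.H)) = 245760 := by
      have h3 := Cfsg.Agent.Ru127.Sg.card_cent C
      rw [hz] at h3
      exact h3
    rw [h2, card_H] at h1
    omega
  change MeetIn 2 D
  have ec : V [0] * V [4, 0, 4, 4] = V (el3 (2 : Fin 3)) := (V_append _ _).symm
  refine CoThree.meetIn_of_four card_D (t := ⟨V [5], m_5⟩) ha hb hab ha1 hb1 hne ?_
  have key : ∀ x ∈ ({⟨V [0], m_0⟩, ⟨V [4, 0, 4, 4], m_b⟩, ⟨V [0], m_0⟩ * ⟨V [4, 0, 4, 4], m_b⟩} : Set D),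
      ∃ i : Fin 3, (x : RuOrder.H) = V (el3 i) := by
    intro x hx
    simp only [Set.mem_insert_iff, Set.mem_singleton_iff] at hx
    rcases hx with rfl | rfl | rfl
    · exact ⟨0, rfl⟩
    · exact ⟨1, rfl⟩
    · exact ⟨2, ec⟩
  intro x hx y hy h
  obtain ⟨i, hi⟩ := key x hx
  obtain ⟨j, hj⟩ := key y hy
  have h1 : V [5] * (x : RuOrder.H) = y * V [5] := congrArg Subtype.val h
  rw [hi, hj, ← V_append, ← V_append] at h1
  exact ne_of_and (n_3 i j) h1

theorem meet2_Ru {G : Type*} [Group G] [Finite G] [IsSimpleGroup G] (h : Spor.IsoRu G) : MeetIn 2 G := by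
  obtain ⟨e⟩ := h
  exact model.congr (e.trans RuLat.Main.equiv).symm

end Cfsg.Agent.H865.Meet.Ru
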