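import Cfsg.Agent.H865.Meet.Base
import Cfsg.Agent.H964.NoHall.RowTh
import Cfsg.Agent.MonsterX.ThOneClass
import Cfsg.Agent.S1700

/-!
# Trivial intersections of Sylow 2-subgroups: `Th` (an element of order 19 is inverted)
-/

set_option autoImplicit false

namespace Cfsg.Agent.H865.Meet.Th

open Cfsg Subgroup Cfsg.Agent.H68.MeetB
open Cfsg.Agent.H964.NoHall

theorem card : Nat.card Spor.Th = 90745943887872000 := S1700.result.2

theorem fin : Finite Spor.Th := Nat.finite_of_card_ne_zero (by rw [card]; norm_num)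

theorem aa : thE (.g .a) * thE (.g .a) = 1 := by
  have h := thE_eq thA_2
  rwa [thE_pow, thE_one, sq] at h

theorem a_ne : thE (.g .a) ≠ 1 := by
  have h := thE_ne thA_ne
  rwa [thE_one] at h

theorem model : MeetIn 2 Spor.Th := by
  have := fin
  have ho := thW_order
  have ha : orderOf (thE (.g .a)) = 2 := orderOf_eq_prime (by rw [sq]; exact aa) a_ne
  have hc := MonsterX.ThOneClass.card_centralizer ha
  refine of_inv (z := thE (.g .a)) (g := thE thW) ?_ aa ?_ (by rw [ho]; norm_num) ?_
  · have h1 := card_mul_index (centralizer ({thE (.g .a)} : Set Spor.Th))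
    rw [hc, card] at h1
    intro h2
    omega
  · rw [thA_conj]
    congr 1
    rw [eq_inv_iff_mul_eq_one, ← pow_succ]
    have h := pow_orderOf_eq_one (thE thW)
    rwa [ho] at h
  · intro h1
    have : Fact (Nat.Prime 2) := ⟨Nat.prime_two⟩
    obtain ⟨t, ht⟩ := exists_prime_orderOf_dvd_card' 2 h1
    have h2 := mem_centralizer_singleton_iff.1 t.2
    have h3 := MonsterX.ThOneClass.card_centralizer (s := (t : Spor.Th)) (by rw [Subgroup.orderOf_coe, ht])
    have h4 : 19 ∣ Nat.card (centralizer ({(t : Spor.Th)} : Set Spor.Th)) := by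
      rw [← ho, ← Subgroup.orderOf_mk (thE thW) (mem_centralizer_singleton_iff.2 h2.symm :
        thE thW ∈ centralizer ({(t : Spor.Th)} : Set Spor.Th))]
      exact orderOf_dvd_natCard _
    rw [h3] at h4
    norm_num at h4

theorem meet2_Th {G : Type*} [Group G] [Finite G] [IsSimpleGroup G] (h : Spor.IsoTh G) : MeetIn 2 G := by
  obtain ⟨e⟩ := h
  exact model.congr e.symm

end Cfsg.Agent.H865.Meet.Th
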